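import Groth.Agent.Lib.ModelTors19.Lift
import Groth.Agent.Lib.GrpNeutral20.Gen

/-!
# Components of the special fibre of a group over a local ring
-/

set_option autoImplicit false
set_option linter.style.haveILetI false
set_option linter.unusedSectionVars false
set_option backward.isDefEq.respectTransparency false
set_option backward.isDefEq.respectTransparency.types false
universe u

open CategoryTheory CategoryTheory.Limits MonoidalCategory CartesianMonoidalCategory MonObj GrpObj AlgebraicGeometry
open Topology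

noncomputable section

namespace Groth.Agent.WeilComp19

theorem connectedComponentIn_range {α β : Type*} [TopologicalSpace α] [TopologicalSpace β] {f : α → β}
    (hf : IsInducing f) (a : α) : connectedComponentIn (Set.range f) (f a) = f '' connectedComponent a := by
  refine Set.Subset.antisymm ?_ ?_
  · have h1 : f '' (f ⁻¹' connectedComponentIn (Set.range f) (f a)) = connectedComponentIn (Set.range f) (f a) :=
      Set.image_preimage_eq_of_subset (connectedComponentIn_subset _ _)
    have hp : IsPreconnected (f ⁻¹' connectedComponentIn (Set.range f) (f a)) :=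
      hf.isPreconnected_image.1 (h1.symm ▸ isPreconnected_connectedComponentIn)
    rw [← h1]
    exact Set.image_mono (hp.subset_connectedComponent (mem_connectedComponentIn (Set.mem_range_self a)))
  · exact (isPreconnected_connectedComponent.image f hf.continuous.continuousOn).subset_connectedComponentIn
      ⟨a, mem_connectedComponent, rfl⟩ (Set.image_subset_range _ _)

variable {R : Type u} [CommRing R] [IsLocalRing R] {k : Type u} [Field k] (φ : R →+* k) (hφ : Function.Surjective φ)
  (G : Over (Spec (CommRingCat.of R))) [GrpObj G]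

local notation "T₀" => (Over.mk (Spec.map (CommRingCat.ofHom φ)) : Over (Spec (CommRingCat.of R)))
local notation "G₀" => Red.bc (Spec.map (CommRingCat.ofHom φ)) G

/-- The special fibre as a set. -/
abbrev fib : Set G.left := G.hom ⁻¹' {IsLocalRing.closedPoint R}

include hφ in
theorem specMap_eq_closedPoint (p : Spec (CommRingCat.of k)) :
    (Spec.map (CommRingCat.ofHom φ)) p = IsLocalRing.closedPoint R := by
  refine PrimeSpectrum.ext ?_
  show Ideal.comap φ (p : PrimeSpectrum k).asIdeal = IsLocalRing.maximalIdeal R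
  rw [Subsingleton.elim (α := PrimeSpectrum k) p (IsLocalRing.closedPoint k),
    show (IsLocalRing.closedPoint k).asIdeal = ⊥ from IsLocalRing.maximalIdeal_eq_bot, ← RingHom.ker_eq_comap_bot]
  exact IsLocalRing.eq_maximalIdeal (RingHom.ker_isMaximal_of_surjective φ hφ)

include hφ in
theorem range_fst : Set.range (pullback.fst G.hom (Spec.map (CommRingCat.ofHom φ))) = fib G := by
  refine (Scheme.Pullback.range_fst _ _).trans (congrArg _ ?_)
  refine Set.Subset.antisymm ?_ (Set.singleton_subset_iff.2 ⟨IsLocalRing.closedPoint k, specMap_eq_closedPoint φ hφ _⟩)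
  rintro _ ⟨p, rfl⟩
  exact specMap_eq_closedPoint φ hφ p

include hφ in
theorem isEmbedding_fst : IsEmbedding (pullback.fst G.hom (Spec.map (CommRingCat.ofHom φ))) := by
  haveI : IsClosedImmersion (Spec.map (CommRingCat.ofHom φ)) := IsClosedImmersion.spec_of_surjective _ hφ
  exact (pullback.fst G.hom (Spec.map (CommRingCat.ofHom φ))).isEmbedding

/-- The unit point as a morphism from the test object. -/
def toMapUnit : T₀ ⟶ (Over.map (Spec.map (CommRingCat.ofHom φ))).obj (𝟙_ (Over (Spec (CommRingCat.of k)))) :=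
  Over.homMk (𝟙 _) (by show 𝟙 _ ≫ 𝟙 _ ≫ _ = Spec.map (CommRingCat.ofHom φ); simp)

/-- Its inverse. -/
def ofMapUnit : (Over.map (Spec.map (CommRingCat.ofHom φ))).obj (𝟙_ (Over (Spec (CommRingCat.of k)))) ⟶ T₀ :=
  Over.homMk (𝟙 _) (by show 𝟙 _ ≫ Spec.map (CommRingCat.ofHom φ) = 𝟙 _ ≫ _; simp)

/-- Points with values in the residue field are points of the special fibre. -/
def pts : (T₀ ⟶ G) ≃* (𝟙_ (Over (Spec (CommRingCat.of k))) ⟶ G₀) :=
  ({ toFun := fun a => ofMapUnit φ ≫ a
     invFun := fun b => toMapUnit φ ≫ b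
     left_inv := fun a => Over.OverMorphism.ext (by
       show 𝟙 _ ≫ 𝟙 _ ≫ a.left = a.left
       simp)
     right_inv := fun b => Over.OverMorphism.ext (by
       show 𝟙 _ ≫ 𝟙 _ ≫ b.left = b.left
       simp)
     map_mul' := fun a b => MonObj.comp_mul _ a b } :
    (T₀ ⟶ G) ≃* ((Over.map (Spec.map (CommRingCat.ofHom φ))).obj (𝟙_ (Over (Spec (CommRingCat.of k)))) ⟶ G)).trans
  (SubSpec19.bcPts (Spec.map (CommRingCat.ofHom φ)) _)

theorem pts_apply (a : T₀ ⟶ G) (p : Spec (CommRingCat.of k)) :
    pullback.fst G.hom (Spec.map (CommRingCat.ofHom φ)) ((pts φ G a).left p) = a.left p := by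
  have h := SubSpec19.bcPts_symm_left (Spec.map (CommRingCat.ofHom φ)) (𝟙_ _) (pts φ G a)
  rw [show (SubSpec19.bcPts (Spec.map (CommRingCat.ofHom φ)) (G := G) (𝟙_ _)).symm (pts φ G a) = ofMapUnit φ ≫ a from
    MulEquiv.symm_apply_apply _ _] at h
  show ((pts φ G a).left ≫ pullback.fst G.hom (Spec.map (CommRingCat.ofHom φ))) p = _
  refine (congrArg (fun g : Spec (CommRingCat.of k) ⟶ G.left => g p) h.symm).trans ?_
  show (𝟙 _ ≫ a.left) p = a.left p
  rw [Category.id_comp]

include hφ in
theorem mem_fib (a : T₀ ⟶ G) (p : Spec (CommRingCat.of k)) : a.left p ∈ fib G := by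
  rw [← range_fst φ hφ G]
  exact ⟨_, pts_apply φ G a p⟩

include hφ in
theorem sameComp_iff (a b : T₀ ⟶ G) :
    ModelTors19.SameComp (pts φ G a) (pts φ G b) ↔
      b.left (IsLocalRing.closedPoint k) ∈ connectedComponentIn (fib G) (a.left (IsLocalRing.closedPoint k)) := by
  rw [← range_fst φ hφ G, ← pts_apply φ G a, ← pts_apply φ G b,
    connectedComponentIn_range (isEmbedding_fst φ hφ G).isInducing,
    (isEmbedding_fst φ hφ G).injective.mem_set_image]
  rfl

omit [IsLocalRing R] in
theorem unit_left : (1 : T₀ ⟶ G).left = Spec.map (CommRingCat.ofHom φ) ≫ η[G].left := by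
  rw [Hom.one_def, Over.comp_left]
  rfl

theorem mem_neutralSet_iff' {z : G.left} (hz : z ∈ fib G) :
    z ∈ SGA3x.neutralSet G ↔ z ∈ connectedComponentIn (fib G) (η[G].left (IsLocalRing.closedPoint R)) := by
  rw [GrpNeutral20.mem_iff, show G.hom z = IsLocalRing.closedPoint R from hz]

include hφ in
theorem mem_neutralSet_iff (a : T₀ ⟶ G) :
    a.left (IsLocalRing.closedPoint k) ∈ SGA3x.neutralSet G ↔ ModelTors19.SameComp 1 (pts φ G a) := by
  rw [mem_neutralSet_iff' G (mem_fib φ hφ G a _), ← map_one (pts φ G), sameComp_iff φ hφ, unit_left]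
  have e : (Spec.map (CommRingCat.ofHom φ) ≫ η[G].left) (IsLocalRing.closedPoint k) =
      η[G].left (IsLocalRing.closedPoint R) := by
    show η[G].left ((Spec.map (CommRingCat.ofHom φ)) (IsLocalRing.closedPoint k)) = _
    exact congrArg _ (specMap_eq_closedPoint φ hφ _)
  exact Iff.of_eq (congrArg (fun z => a.left (IsLocalRing.closedPoint k) ∈ connectedComponentIn (fib G) z) e.symm)

end Groth.Agent.WeilComp19
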