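import Groth.Prelude.Def_WeilRes
import Groth.Agent.Lib.GrpLaw19.Basic

/-!
# Lifting points to Weil restrictions along a finite extension with trivial residue extension
-/

set_option autoImplicit false
set_option linter.style.haveILetI false
set_option linter.unusedSectionVars false
set_option backward.isDefEq.respectTransparency false
set_option backward.isDefEq.respectTransparency.types false
universe u

open CategoryTheory CategoryTheory.Limits MonoidalCategory CartesianMonoidalCategory MonObj GrpObj AlgebraicGeometry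
open scoped TensorProduct

noncomputable section

namespace Groth.Agent.WeilComp19

variable (R R' : Type u) [CommRing R] [CommRing R'] [IsLocalRing R] [IsLocalRing R'] [Algebra R R']

/-- Totally ramified: trivial residue extension and nilpotent special fibre. -/
structure Tot : Prop where
  dec : ∀ r' : R', ∃ r : R, r' - algebraMap R R' r ∈ IsLocalRing.maximalIdeal R'
  nil : ∃ e : ℕ, IsLocalRing.maximalIdeal R' ^ e ≤ (IsLocalRing.maximalIdeal R).map (algebraMap R R')

variable {R R'} (hT : Tot R R')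

local notation "fS" => Spec.map (CommRingCat.ofHom (algebraMap R R'))

section Test

variable {B : Type u} [CommRing B] [Algebra R B] (hB : ∀ r ∈ IsLocalRing.maximalIdeal R, algebraMap R B r = 0)
  (θ : R' →ₐ[R] B) (hθ : ∀ r ∈ IsLocalRing.maximalIdeal R', θ r = 0)

/-- The test object. -/
abbrev tst (B : Type u) [CommRing B] [Algebra R B] : Over (Spec (CommRingCat.of R)) :=
  Over.mk (Spec.map (CommRingCat.ofHom (algebraMap R B)))

/-- The test object on the reduced side. -/
abbrev tst' : Over (Spec (CommRingCat.of R')) := Over.mk (Spec.map (CommRingCat.ofHom θ.toRingHom))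

/-- Reduction. -/
def red : B ⊗[R] R' →ₐ[R] B := Algebra.TensorProduct.lift (AlgHom.id R B) θ fun _ _ => Commute.all _ _

theorem red_tmul (b : B) (r : R') : red θ (b ⊗ₜ r) = b * θ r := by
  simp [red]

theorem red_surjective : Function.Surjective (red θ) := fun b => ⟨b ⊗ₜ 1, by rw [red_tmul, map_one, _root_.mul_one]⟩

include hT hB hθ in
theorem isNilpotent_ker_red : IsNilpotent (RingHom.ker (red θ)) := by
  obtain ⟨e, he⟩ := hT.nil
  let incR : R' →ₐ[R] B ⊗[R] R' := Algebra.TensorProduct.includeRight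
  let incL : B →+* B ⊗[R] R' := Algebra.TensorProduct.includeLeftRingHom
  let I := (IsLocalRing.maximalIdeal R').map incR
  have hmem : ∀ z : B ⊗[R] R', z - incL (red θ z) ∈ I := by
    intro z
    induction z using TensorProduct.induction_on with
    | zero => simp
    | tmul b r =>
      obtain ⟨r₀, hr⟩ := hT.dec r
      have h1 : θ r = algebraMap R B r₀ := by
        rw [← sub_eq_zero, ← θ.commutes, ← map_sub]
        exact hθ _ hr
      have e' : b ⊗ₜ[R] r - incL (red θ (b ⊗ₜ r)) = incL b * incR (r - algebraMap R R' r₀) := by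
        show b ⊗ₜ[R] r - (red θ (b ⊗ₜ r)) ⊗ₜ[R] 1 = b ⊗ₜ[R] 1 * 1 ⊗ₜ[R] (r - algebraMap R R' r₀)
        rw [red_tmul, h1, Algebra.TensorProduct.tmul_mul_tmul, _root_.mul_one, _root_.one_mul, TensorProduct.tmul_sub,
          Algebra.algebraMap_eq_smul_one r₀, Algebra.algebraMap_eq_smul_one r₀, mul_smul_comm, _root_.mul_one,
          TensorProduct.smul_tmul]
      rw [e']
      exact Ideal.mul_mem_left _ _ (Ideal.mem_map_of_mem _ hr)
    | add a b ha hb =>
      rw [map_add, map_add, add_sub_add_comm]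
      exact add_mem ha hb
  refine ⟨e, le_bot_iff.1 ?_⟩
  refine (Ideal.pow_right_mono (show RingHom.ker (red θ) ≤ I from fun z hz => ?_) e).trans ?_
  · have h := hmem z
    rwa [show red θ z = 0 from hz, map_zero, sub_zero] at h
  · rw [← Ideal.map_pow]
    refine (Ideal.map_mono he).trans ?_
    rw [Ideal.map_le_iff_le_comap, Ideal.map_le_iff_le_comap]
    intro r hr
    show incR (algebraMap R R' r) = 0
    rw [AlgHom.commutes, Algebra.TensorProduct.algebraMap_apply, hB r hr, TensorProduct.zero_tmul]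

include hT hB hθ in
theorem red_nilradical : RingHom.ker (red θ) ≤ nilradical (B ⊗[R] R') := by
  obtain ⟨e, he⟩ := isNilpotent_ker_red hT hB θ hθ
  exact fun z hz => ⟨e, by
    have h := Ideal.pow_mem_pow hz e
    rwa [he, Ideal.zero_eq_bot, Ideal.mem_bot] at h⟩

/-- The reduced base change inside the base change. -/
def spO : tst' θ ⟶ Red.bc fS (tst B) :=
  Over.homMk (Spec.map (CommRingCat.ofHom (red θ).toRingHom) ≫ (pullbackSpecIso R B R').inv) (by
    show (Spec.map (CommRingCat.ofHom (red θ).toRingHom) ≫ (pullbackSpecIso R B R').inv) ≫ pullback.snd _ _ = _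
    rw [Category.assoc, pullbackSpecIso_inv_snd, ← Spec.map_comp]
    congr 2
    ext r
    show red θ ((1 : B) ⊗ₜ r) = θ r
    rw [red_tmul, _root_.one_mul])

theorem spO_left : (spO θ).left = Spec.map (CommRingCat.ofHom (red θ).toRingHom) ≫ (pullbackSpecIso R B R').inv := rfl

include hT hB hθ in
theorem spO_surjective : Surjective (spO θ).left := by
  haveI : Surjective (Spec.map (CommRingCat.ofHom (red θ).toRingHom)) := ⟨fun P => by
    have h := range_comap_of_surjective _ (red θ).toRingHom (red_surjective θ)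
    have hP : P ∈ PrimeSpectrum.zeroLocus (RingHom.ker (red θ).toRingHom : Set (B ⊗[R] R')) := fun z hz =>
      (nilradical_eq_sInf (B ⊗[R] R') ▸ red_nilradical hT hB θ hθ hz : z ∈ sInf {J : Ideal (B ⊗[R] R') | J.IsPrime})
        |> fun hz' => (Submodule.mem_sInf.1 hz') _ P.isPrime
    rw [← h] at hP
    exact hP⟩
  rw [spO_left]
  infer_instance

variable {N' : Over (Spec (CommRingCat.of R'))}

/-- A point through a chart. -/
def ofRing {C : Type u} [CommRing C] (u : Spec (CommRingCat.of C) ⟶ N'.left) (χ : C →+* B ⊗[R] R')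
    (hχ : Spec.map (CommRingCat.ofHom χ) ≫ u ≫ N'.hom =
      Spec.map (CommRingCat.ofHom (Algebra.TensorProduct.includeRight : R' →ₐ[R] B ⊗[R] R').toRingHom)) :
    Red.bc fS (tst B) ⟶ N' :=
  Over.homMk ((pullbackSpecIso R B R').hom ≫ Spec.map (CommRingCat.ofHom χ) ≫ u) (by
    show ((pullbackSpecIso R B R').hom ≫ Spec.map (CommRingCat.ofHom χ) ≫ u) ≫ N'.hom = pullback.snd _ _
    simp only [Category.assoc]
    rw [hχ, ← Iso.eq_inv_comp, pullbackSpecIso_inv_snd]
    rfl)

theorem spO_comp_ofRing {C : Type u} [CommRing C] (u : Spec (CommRingCat.of C) ⟶ N'.left) (χ : C →+* B ⊗[R] R') (hχ) :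
    (spO θ ≫ ofRing u χ hχ).left = Spec.map (CommRingCat.ofHom ((red θ).toRingHom.comp χ)) ≫ u := by
  rw [Over.comp_left, spO_left]
  show (Spec.map _ ≫ (pullbackSpecIso R B R').inv) ≫ (pullbackSpecIso R B R').hom ≫ _ ≫ u = _
  rw [Category.assoc, Iso.inv_hom_id_assoc, ← Spec.map_comp_assoc]
  rfl

theorem red_comp_eq {C : Type u} [CommRing C] (u : Spec (CommRingCat.of C) ⟶ N'.left) [Mono u]
    (χ₁ χ₂ : C →+* B ⊗[R] R') (h₁) (h₂) (h : spO θ ≫ ofRing u χ₁ h₁ = spO θ ≫ ofRing u χ₂ h₂) :
    (red θ).toRingHom.comp χ₁ = (red θ).toRingHom.comp χ₂ := by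
  have h' := (spO_comp_ofRing θ u χ₁ h₁).symm.trans ((congrArg CommaMorphism.left h).trans (spO_comp_ofRing θ u χ₂ h₂))
  exact congrArg CommRingCat.Hom.hom (Spec.map_injective ((cancel_mono u).1 h'))

variable {W : Over (Spec (CommRingCat.of R))} (q : Red.bc (Spec.map (CommRingCat.ofHom (algebraMap R R'))) W ⟶ N')

/-- The reduction of a point of the Weil restriction. -/
def redPt (x : tst B ⟶ W) : tst' θ ⟶ N' := spO θ ≫ WeilRes.restr fS q (tst B) x

theorem redPt_one [GrpObj W] [GrpObj N'] [IsMonHom q] : redPt θ q (1 : tst B ⟶ W) = 1 := by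
  rw [redPt, WeilRes.restr_one, MonObj.comp_one]

theorem redPt_mul [GrpObj W] [GrpObj N'] [IsMonHom q] (x y : tst B ⟶ W) :
    redPt θ q (x * y) = redPt θ q x * redPt θ q y := by
  rw [redPt, WeilRes.restr_mul, MonObj.comp_mul]
  rfl

/-- Reduction as a homomorphism. -/
def redHom [GrpObj W] [GrpObj N'] [IsMonHom q] : (tst B ⟶ W) →* (tst' θ ⟶ N') where
  toFun := redPt θ q
  map_one' := redPt_one θ q
  map_mul' := redPt_mul θ q

end Test

section Functorial

variable {B B₂ : Type u} [CommRing B] [CommRing B₂] [Algebra R B] [Algebra R B₂] (h : B →ₐ[R] B₂)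

/-- Functoriality of test objects. -/
def tstMap : tst (R := R) B₂ ⟶ tst (R := R) B :=
  Over.homMk (Spec.map (CommRingCat.ofHom h.toRingHom)) (by
    show Spec.map (CommRingCat.ofHom h.toRingHom) ≫ Spec.map _ = Spec.map _
    rw [← Spec.map_comp, ← CommRingCat.ofHom_comp]
    congr 2
    ext r
    exact h.commutes r)

theorem pullback_tstMap : (pullbackSpecIso R B₂ R').inv ≫ ((Over.pullback fS).map (tstMap h)).left =
    Spec.map (CommRingCat.ofHom (Algebra.TensorProduct.map h (AlgHom.id R R')).toRingHom) ≫ (pullbackSpecIso R B R').inv := by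
  refine pullback.hom_ext ?_ ?_
  · rw [Category.assoc, Category.assoc]
    erw [pullback.lift_fst, pullbackSpecIso_inv_fst_assoc, pullbackSpecIso_inv_fst]
    rw [show (tstMap h).left = Spec.map (CommRingCat.ofHom h.toRingHom) from rfl, ← Spec.map_comp, ← Spec.map_comp]
    refine congrArg Spec.map (CommRingCat.hom_ext (RingHom.ext fun b => ?_))
    show h b ⊗ₜ[R] (1 : R') = Algebra.TensorProduct.map h (AlgHom.id R R') (b ⊗ₜ[R] (1 : R'))
    simp
  · rw [Category.assoc, Category.assoc]
    erw [pullback.lift_snd, pullbackSpecIso_inv_snd, pullbackSpecIso_inv_snd, ← Spec.map_comp]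
    refine congrArg Spec.map (CommRingCat.hom_ext (RingHom.ext fun r => ?_))
    show (1 : B₂) ⊗ₜ[R] r = Algebra.TensorProduct.map h (AlgHom.id R R') ((1 : B) ⊗ₜ[R] r)
    simp

variable {N' : Over (Spec (CommRingCat.of R'))} {C : Type u} [CommRing C] (u : Spec (CommRingCat.of C) ⟶ N'.left)
  (χ : C →+* B ⊗[R] R')

theorem pullback_tstMap_ofRing (hχ) (hχ₂) :
    (Over.pullback fS).map (tstMap h) ≫ ofRing u χ hχ =
      ofRing u ((Algebra.TensorProduct.map h (AlgHom.id R R')).toRingHom.comp χ) hχ₂ := by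
  refine Over.OverMorphism.ext ?_
  rw [Over.comp_left]
  show ((Over.pullback fS).map (tstMap h)).left ≫ (pullbackSpecIso R B R').hom ≫ _ ≫ u =
    (pullbackSpecIso R B₂ R').hom ≫ _ ≫ u
  rw [← Iso.inv_comp_eq, ← Category.assoc, pullback_tstMap, Category.assoc, Iso.inv_hom_id_assoc, ← Spec.map_comp_assoc]
  rfl

end Functorial

end Groth.Agent.WeilComp19
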