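import Groth.Agent.Lib.WeilComp19.Comp
import Groth.Agent.Lib.WeilComp19.Lift
import Groth.Agent.Lib.GrpField.Component

/-!
# Components of the special fibre of a Weil restriction
-/

set_option autoImplicit false
set_option linter.style.haveILetI false
set_option linter.unusedSectionVars false
set_option backward.isDefEq.respectTransparency false
set_option backward.isDefEq.respectTransparency.types false
universe u

open CategoryTheory CategoryTheory.Limits MonoidalCategory CartesianMonoidalCategory MonObj GrpObj AlgebraicGeometry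
open scoped TensorProduct Polynomial

noncomputable section

namespace Groth.Agent.WeilComp19

open ModelTors19

variable {R R' : Type u} [CommRing R] [CommRing R'] [IsLocalRing R] [IsLocalRing R'] [Algebra R R']
  [IsLocalHom (algebraMap R R')] (hT : Tot R R')

local notation "fS" => Spec.map (CommRingCat.ofHom (algebraMap R R'))

variable {N' : Over (Spec (CommRingCat.of R'))}

omit [IsLocalRing R] [IsLocalRing R'] [IsLocalHom (algebraMap R R')] in
/-- Morphisms from affine schemes into a chart. -/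
theorem exists_factor {C : Type u} [CommRing C] (u : Spec (CommRingCat.of C) ⟶ N'.left) [IsOpenImmersion u]
    {A : Type u} [CommRing A] (h : Spec (CommRingCat.of A) ⟶ N'.left) (hr : Set.range h ⊆ Set.range u) :
    ∃ g : C →+* A, Spec.map (CommRingCat.ofHom g) ≫ u = h :=
  ⟨(Spec.preimage (IsOpenImmersion.lift u h hr)).hom, by
    rw [CommRingCat.ofHom_hom, Spec.map_preimage, IsOpenImmersion.lift_fac]⟩

/-- Lifting the segment between two points which agree to first order. -/
theorem exists_path {S C A A' : Type u} [CommRing S] [CommRing C] [CommRing A] [CommRing A'] (sC : S →+* C)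
    (hs : letI := sC.toAlgebra; Algebra.FormallySmooth S C) (sA : S →+* A) (sA' : S →+* A') (ι' : A →+* A')
    (hι : ι'.comp sA = sA') (t : A') (f g : C →+* A) (hf : f.comp sC = sA) (hg : g.comp sC = sA)
    (K : Ideal A) (hK : IsNilpotent K) (hd : ∀ c, g c - f c ∈ K) :
    ∃ χ : C →+* A', χ.comp sC = sA' ∧ ∀ ev : A' →+* A, ev.comp ι' = RingHom.id A → ev t * (1 - ev t) = 0 →
      ∀ c, ev (χ c) = f c + ev t * (g c - f c) := by
  letI := sC.toAlgebra
  letI := sA'.toAlgebra
  haveI := hs
  let J : Ideal A' := Ideal.span {t * (1 - t)} * K.map ι'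
  have hJ : IsNilpotent J := by
    obtain ⟨e, he⟩ := hK
    refine ⟨e, le_bot_iff.1 ((Ideal.pow_right_mono Ideal.mul_le_right e).trans ?_)⟩
    rw [← Ideal.map_pow, he, Ideal.zero_eq_bot, Ideal.map_bot]
  let d : C → A := fun c => g c - f c
  let χ0 : C →+* A' ⧸ J :=
    { toFun := fun c => Ideal.Quotient.mk J (ι' (f c) + t * ι' (d c))
      map_one' := by simp [d]
      map_zero' := by simp [d]
      map_add' := fun a b => by
        rw [← map_add]
        congr 1
        simp only [d, map_add, map_sub]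
        ring
      map_mul' := fun a b => by
        rw [← map_mul, Ideal.Quotient.eq]
        have e : ι' (f (a * b)) + t * ι' (d (a * b)) - (ι' (f a) + t * ι' (d a)) * (ι' (f b) + t * ι' (d b)) =
            (t * (1 - t)) * ι' (d a * d b) := by
          simp only [d, map_mul, map_sub]
          ring
        rw [e]
        exact Ideal.mul_mem_mul (Ideal.mem_span_singleton_self _) (Ideal.mem_map_of_mem _ (K.mul_mem_left _ (hd b))) }
  let χ0' : C →ₐ[S] A' ⧸ J :=
    { χ0 with
      commutes' := fun r => by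
        show Ideal.Quotient.mk J (ι' (f (sC r)) + t * ι' (d (sC r))) = Ideal.Quotient.mk J (sA' r)
        have h2 : d (sC r) = 0 := sub_eq_zero.2 ((RingHom.congr_fun hg r).trans (RingHom.congr_fun hf r).symm)
        rw [h2, map_zero, mul_zero, add_zero, show f (sC r) = sA r from RingHom.congr_fun hf r, ← hι]
        rfl }
  let χ := Algebra.FormallySmooth.liftOfSurjective χ0' (Ideal.Quotient.mkₐ S J) Ideal.Quotient.mk_surjective (by
    show IsNilpotent (RingHom.ker (Ideal.Quotient.mk J))
    rw [Ideal.mk_ker]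
    exact hJ)
  refine ⟨χ.toRingHom, RingHom.ext fun r => χ.commutes r, fun ev hev ht c => ?_⟩
  have hEJ : J ≤ RingHom.ker ev := by
    refine Ideal.mul_le_left.trans ?_
    rw [Ideal.span_singleton_le_iff_mem, RingHom.mem_ker, map_mul, map_sub, map_one, ht]
  have hq : χ c - (ι' (f c) + t * ι' (d c)) ∈ J := (Ideal.Quotient.eq).1
    (Algebra.FormallySmooth.liftOfSurjective_apply χ0' (Ideal.Quotient.mkₐ S J) _ _ c)
  have h1 : ev (χ c) = ev (ι' (f c) + t * ι' (d c)) := by
    rw [← sub_eq_zero, ← map_sub]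
    exact hEJ hq
  show ev (χ c) = _
  rw [h1, map_add, map_mul, ← RingHom.comp_apply ev ι', ← RingHom.comp_apply ev ι', hev]
  rfl

section Chart

variable {C : Type u} [CommRing C] (u : Spec (CommRingCat.of C) ⟶ N'.left) [IsOpenImmersion u]

/-- The structure map of a chart. -/
def chartMap : R' →+* C := (Spec.preimage (u ≫ N'.hom)).hom

theorem spec_chartMap : Spec.map (CommRingCat.ofHom (chartMap u)) = u ≫ N'.hom := by
  rw [chartMap, CommRingCat.ofHom_hom, Spec.map_preimage]

theorem compat_iff {A : Type u} [CommRing A] (g : C →+* A) (s : R' →+* A) :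
    Spec.map (CommRingCat.ofHom g) ≫ u ≫ N'.hom = Spec.map (CommRingCat.ofHom s) ↔ g.comp (chartMap u) = s := by
  rw [← spec_chartMap u, ← Spec.map_comp, ← CommRingCat.ofHom_comp]
  exact ⟨fun h => congrArg CommRingCat.Hom.hom (Spec.map_injective h), fun h => by rw [h]⟩

theorem formallySmooth_chartMap [Smooth N'.hom] :
    letI := (chartMap u).toAlgebra; Algebra.FormallySmooth R' C := by
  letI := (chartMap u).toAlgebra
  have h : Smooth (Spec.map (CommRingCat.ofHom (chartMap u))) := by rw [spec_chartMap]; infer_instance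
  have h2 : (chartMap u).Smooth := (HasRingHomProperty.Spec_iff (P := @Smooth)).1 h
  haveI : Algebra.Smooth R' C := h2
  exact inferInstance

include hT in
/-- Infinitesimal lifting. -/
theorem exists_lift [Smooth N'.hom] {B : Type u} [CommRing B] [Algebra R B]
    (hB : ∀ r ∈ IsLocalRing.maximalIdeal R, algebraMap R B r = 0) (θ : R' →ₐ[R] B)
    (hθ : ∀ r ∈ IsLocalRing.maximalIdeal R', θ r = 0) (g : C →+* B) (hg : g.comp (chartMap u) = θ.toRingHom) :
    ∃ χ : C →+* B ⊗[R] R', χ.comp (chartMap u) = (Algebra.TensorProduct.includeRight : R' →ₐ[R] B ⊗[R] R').toRingHom ∧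
      (red θ).toRingHom.comp χ = g := by
  letI := (chartMap u).toAlgebra
  haveI := formallySmooth_chartMap u
  letI : Algebra R' B := θ.toRingHom.toAlgebra
  letI : Algebra R' (B ⊗[R] R') := (Algebra.TensorProduct.includeRight : R' →ₐ[R] B ⊗[R] R').toRingHom.toAlgebra
  let g' : C →ₐ[R'] B := { g with commutes' := fun r => RingHom.congr_fun hg r }
  let r' : B ⊗[R] R' →ₐ[R'] B :=
    { (red θ).toRingHom with
      commutes' := fun r => by
        show red θ ((1 : B) ⊗ₜ r) = θ r
        rw [red_tmul, _root_.one_mul] }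
  let χ := Algebra.FormallySmooth.liftOfSurjective g' r' (red_surjective θ) (isNilpotent_ker_red hT hB θ hθ)
  exact ⟨χ.toRingHom, RingHom.ext fun r => χ.commutes r,
    RingHom.ext fun c => Algebra.FormallySmooth.liftOfSurjective_apply g' r' _ _ c⟩

end Chart

variable [Smooth N'.hom] {k : Type u} [Field k] [Algebra R k] (hφ : Function.Surjective (algebraMap R k))
  (θ : R' →ₐ[R] k) (hθ : ∀ r ∈ IsLocalRing.maximalIdeal R', θ r = 0)
  {W : Over (Spec (CommRingCat.of R))} (q : Red.bc (Spec.map (CommRingCat.ofHom (algebraMap R R'))) W ⟶ N')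
  (hW : WeilRes.IsWeilRes (Spec.map (CommRingCat.ofHom (algebraMap R R'))) N' W q)

include hφ in
theorem kills (r : R) (hr : r ∈ IsLocalRing.maximalIdeal R) : algebraMap R k r = 0 := by
  have := IsLocalRing.eq_maximalIdeal (RingHom.ker_isMaximal_of_surjective (algebraMap R k) hφ)
  rwa [← this] at hr

include hT hW hθ in
/-- Every chart carries a family of lifts. -/
theorem exists_chart_lift {C : Type u} [CommRing C] (u : Spec (CommRingCat.of C) ⟶ N'.left) [IsOpenImmersion u] :
    ∃ S : Set W.left, S ⊆ fib W ∧ (_root_.IsPreconnected (Set.range u ∩ fib N') → _root_.IsPreconnected S) ∧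
      ∀ g : tst' θ ⟶ N', g.left (IsLocalRing.closedPoint k) ∈ Set.range u →
        ∃ x : tst k ⟶ W, redPt θ q x = g ∧ x.left (IsLocalRing.closedPoint k) ∈ S := by
  let I := (IsLocalRing.maximalIdeal R').map (chartMap u)
  let sB : R →+* C ⧸ I := ((Ideal.Quotient.mk I).comp (chartMap u)).comp (algebraMap R R')
  letI : Algebra R (C ⧸ I) := sB.toAlgebra
  have hI : ∀ r ∈ IsLocalRing.maximalIdeal R', Ideal.Quotient.mk I (chartMap u r) = 0 := fun r hr =>
    Ideal.Quotient.eq_zero_iff_mem.2 (Ideal.mem_map_of_mem _ hr)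
  have hB : ∀ r ∈ IsLocalRing.maximalIdeal R, algebraMap R (C ⧸ I) r = 0 := fun r hr =>
    hI _ fun h => (IsLocalRing.mem_maximalIdeal r).1 hr (IsUnit.of_map (algebraMap R R') r h)
  let θB : R' →ₐ[R] C ⧸ I := { (Ideal.Quotient.mk I).comp (chartMap u) with commutes' := fun r => rfl }
  obtain ⟨χ, hχ, hχr⟩ := exists_lift hT u hB θB hI (Ideal.Quotient.mk I) rfl
  have hχ' := (compat_iff u χ _).2 hχ
  let γ₀ := hW.lift (tst (C ⧸ I)) (ofRing u χ hχ')
  refine ⟨Set.range γ₀.left, ?_, ?_, ?_⟩
  · rintro _ ⟨P, rfl⟩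
    show W.hom (γ₀.left P) ∈ ({IsLocalRing.closedPoint R} : Set _)
    rw [Set.mem_singleton_iff, ← Scheme.Hom.comp_apply, Over.w γ₀]
    refine PrimeSpectrum.ext (le_antisymm (IsLocalRing.le_maximalIdeal (Ideal.IsPrime.ne_top inferInstance)) ?_)
    intro r hr
    show algebraMap R (C ⧸ I) r ∈ (P : PrimeSpectrum (C ⧸ I)).asIdeal
    rw [hB r hr]
    exact zero_mem _
  · intro h
    have hmk : Set.range (Spec.map (CommRingCat.ofHom (Ideal.Quotient.mk I)) ≫ u) = Set.range u ∩ fib N' := by
      rw [Scheme.Hom.comp_base, TopCat.coe_comp, Set.range_comp]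
      have hr : Set.range (Spec.map (CommRingCat.ofHom (Ideal.Quotient.mk I))) = u ⁻¹' fib N' := by
        refine (range_comap_of_surjective _ _ Ideal.Quotient.mk_surjective).trans ?_
        rw [Ideal.mk_ker]
        ext P
        show (I : Set C) ⊆ (P : PrimeSpectrum C).asIdeal ↔ N'.hom (u P) = IsLocalRing.closedPoint R'
        rw [← Scheme.Hom.comp_apply, ← spec_chartMap u]
        constructor
        · intro hP
          exact PrimeSpectrum.ext (le_antisymm (IsLocalRing.le_maximalIdeal (Ideal.IsPrime.ne_top inferInstance))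
            fun r hr => hP (Ideal.mem_map_of_mem _ hr))
        · intro hP
          have hP' : Ideal.comap (chartMap u) (P : PrimeSpectrum C).asIdeal = IsLocalRing.maximalIdeal R' :=
            congrArg PrimeSpectrum.asIdeal hP
          exact (Ideal.map_le_iff_le_comap.2 hP'.ge : I ≤ (P : PrimeSpectrum C).asIdeal)
      rw [hr, Set.image_preimage_eq_range_inter]
    haveI : IsClosedImmersion (Spec.map (CommRingCat.ofHom (Ideal.Quotient.mk I))) :=
      IsClosedImmersion.spec_of_surjective _ Ideal.Quotient.mk_surjective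
    haveI : PreconnectedSpace (Spec (CommRingCat.of (C ⧸ I))) := by
      refine ⟨?_⟩
      refine (Spec.map (CommRingCat.ofHom (Ideal.Quotient.mk I)) ≫ u).isEmbedding.isInducing.isPreconnected_image.1 ?_
      rw [Set.image_univ, hmk]
      exact h
    haveI : PreconnectedSpace (tst (R := R) (C ⧸ I)).left :=
      ‹PreconnectedSpace (Spec (CommRingCat.of (C ⧸ I)))›
    exact isPreconnected_range γ₀.left.continuous
  · intro g hg
    obtain ⟨gC, hgC⟩ := exists_factor u g.left (by
      rintro _ ⟨P, rfl⟩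
      rwa [Subsingleton.elim (α := PrimeSpectrum k) P (IsLocalRing.closedPoint k)])
    have hgs : gC.comp (chartMap u) = θ.toRingHom := (compat_iff u gC _).1 (by
      rw [reassoc_of% hgC]; exact Over.w g)
    have hk : I ≤ RingHom.ker gC := Ideal.map_le_iff_le_comap.2 fun r hr => by
      show gC (chartMap u r) = 0
      rw [show gC (chartMap u r) = θ r from RingHom.congr_fun hgs r]
      exact hθ r hr
    let v : C ⧸ I →ₐ[R] k :=
      { Ideal.Quotient.lift I gC hk with
        commutes' := fun r => (RingHom.congr_fun hgs (algebraMap R R' r)).trans (θ.commutes r) }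
    refine ⟨tstMap v ≫ γ₀, ?_, ⟨(tstMap v).left (IsLocalRing.closedPoint k), rfl⟩⟩
    have hχ₂ := (compat_iff u ((Algebra.TensorProduct.map v (AlgHom.id R R')).toRingHom.comp χ)
      (Algebra.TensorProduct.includeRight : R' →ₐ[R] k ⊗[R] R').toRingHom).2 (by
        rw [RingHom.comp_assoc, hχ]
        ext r
        show Algebra.TensorProduct.map v (AlgHom.id R R') ((1 : C ⧸ I) ⊗ₜ[R] r) = (1 : k) ⊗ₜ[R] r
        simp)
    refine Over.OverMorphism.ext ?_
    rw [redPt, WeilRes.restr_comp, WeilRes.IsWeilRes.restr_lift, pullback_tstMap_ofRing v u χ hχ' hχ₂,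
      spO_comp_ofRing, ← hgC]
    congr 3
    have hcomm : (red θ).comp (Algebra.TensorProduct.map v (AlgHom.id R R')) = v.comp (red θB) := by
      refine Algebra.TensorProduct.ext' fun b r => ?_
      show red θ (Algebra.TensorProduct.map v (AlgHom.id R R') (b ⊗ₜ r)) = v (red θB (b ⊗ₜ r))
      rw [Algebra.TensorProduct.map_tmul, red_tmul, red_tmul, map_mul]
      congr 1
      exact (RingHom.congr_fun hgs r).symm
    ext c
    show ((red θ).comp (Algebra.TensorProduct.map v (AlgHom.id R R'))) (χ c) = gC c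
    rw [hcomm]
    show v (red θB (χ c)) = gC c
    rw [show red θB (χ c) = Ideal.Quotient.mk I c from RingHom.congr_fun hχr c]
    rfl

variable [GrpObj N'] [GrpObj W] [IsMonHom q]

local notation "φk" => algebraMap R k

include hT hφ hθ hW in
/-- Points reducing to the unit lie in the identity component. -/
theorem sameComp_one_of_redPt (x : tst k ⟶ W) (hx : redPt θ q x = 1) :
    SameComp 1 (pts φk W x) := by
  let pt := IsLocalRing.closedPoint k
  let e' := η[N'].left (IsLocalRing.closedPoint R')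
  obtain ⟨U, hU, heU, -⟩ := exists_isAffineOpen_mem_and_subset (X := N'.left) (x := e') (U := ⊤) trivial
  let u := hU.fromSpec
  have hur : Set.range u = (U : Set N'.left) := hU.range_fromSpec
  obtain ⟨ε, hε⟩ := exists_factor u η[N'].left (by
    rintro _ ⟨s, rfl⟩
    rw [hur]
    exact ((IsLocalRing.specializes_closedPoint s).map η[N'].left.continuous).mem_open U.isOpen heU)
  have hεs : ε.comp (chartMap u) = RingHom.id R' := (compat_iff u ε _).1 (by
    rw [reassoc_of% hε, Over.w η[N']]
    exact (Spec.map_id _).symm)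
  haveI := spO_surjective hT (kills hφ) θ hθ
  have hθs : Function.Surjective θ := fun c => by
    obtain ⟨r, rfl⟩ := hφ c
    exact ⟨algebraMap R R' r, θ.commutes r⟩
  obtain ⟨χx, hχx⟩ := exists_factor u ((pullbackSpecIso R k R').inv ≫ (WeilRes.restr fS q (tst k) x).left) (by
    rintro _ ⟨P, rfl⟩
    rw [hur]
    obtain ⟨P', hP'⟩ := (spO θ).left.surjective ((pullbackSpecIso R k R').inv P)
    show (WeilRes.restr fS q (tst k) x).left ((pullbackSpecIso R k R').inv P) ∈ (U : Set N'.left)
    rw [← hP', ← Scheme.Hom.comp_apply, ← Over.comp_left, show spO θ ≫ WeilRes.restr fS q (tst k) x = 1 from hx,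
      unit_left, Scheme.Hom.comp_apply]
    exact Set.mem_of_eq_of_mem (congrArg η[N'].left (specMap_eq_closedPoint θ.toRingHom hθs P')) heU)
  have hrx : WeilRes.restr fS q (tst k) x = ofRing u χx (by
      rw [reassoc_of% hχx, Over.w]; exact pullbackSpecIso_inv_snd R k R') := by
    refine Over.OverMorphism.ext ?_
    show _ = (pullbackSpecIso R k R').hom ≫ Spec.map _ ≫ u
    rw [hχx, Iso.hom_inv_id_assoc]
  let incR : R' →ₐ[R] k ⊗[R] R' := Algebra.TensorProduct.includeRight
  let εA : Γ(N'.left, U) →+* k ⊗[R] R' := incR.toRingHom.comp ε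
  have hεA : εA.comp (chartMap u) = incR.toRingHom := by
    rw [RingHom.comp_assoc, hεs, RingHom.comp_id]
  have hr1 : WeilRes.restr fS q (tst k) 1 = ofRing u εA ((compat_iff u εA _).2 hεA) := by
    rw [WeilRes.restr_one, Hom.one_def]
    refine Over.OverMorphism.ext ?_
    show pullback.snd _ _ ≫ η[N'].left = (pullbackSpecIso R k R').hom ≫ Spec.map (CommRingCat.ofHom εA) ≫ u
    rw [CommRingCat.ofHom_comp, Spec.map_comp, Category.assoc, hε, ← Category.assoc]
    congr 1
    rw [← Iso.inv_comp_eq, pullbackSpecIso_inv_snd]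
    rfl
  have hredx : (red θ).toRingHom.comp χx = (red θ).toRingHom.comp εA := by
    refine red_comp_eq θ u χx εA (by rw [reassoc_of% hχx, Over.w]; exact pullbackSpecIso_inv_snd R k R')
      ((compat_iff u εA _).2 hεA) ?_
    rw [← hrx, ← hr1]
    exact hx.trans (redPt_one θ q).symm
  -- the path
  have hB : ∀ r ∈ IsLocalRing.maximalIdeal R, algebraMap R k[X] r = 0 := fun r hr => by
    show Polynomial.C (algebraMap R k r) = 0
    rw [kills hφ r hr, map_zero]
  let Cp : k →ₐ[R] k[X] := { (Polynomial.C : k →+* k[X]) with commutes' := fun r => rfl }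
  let θX : R' →ₐ[R] k[X] := Cp.comp θ
  let ι' := Algebra.TensorProduct.map Cp (AlgHom.id R R')
  let tt : k[X] ⊗[R] R' := Polynomial.X ⊗ₜ 1
  let incX : R' →ₐ[R] k[X] ⊗[R] R' := Algebra.TensorProduct.includeRight
  have hχx' : χx.comp (chartMap u) = incR.toRingHom := (compat_iff u χx _).1 (by
    rw [reassoc_of% hχx, Over.w]; exact pullbackSpecIso_inv_snd R k R')
  obtain ⟨χ, hχ, hχev⟩ := exists_path (chartMap u) (formallySmooth_chartMap u) incR.toRingHom incX.toRingHom
    ι'.toRingHom (RingHom.ext fun r => by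
      show ι' ((1 : k) ⊗ₜ[R] r) = (1 : k[X]) ⊗ₜ[R] r
      simp [ι']) tt εA χx hεA hχx'
    (RingHom.ker (red θ)) (isNilpotent_ker_red hT (kills hφ) θ hθ) (fun c => by
      show red θ (χx c - εA c) = 0
      rw [map_sub, sub_eq_zero]
      exact RingHom.congr_fun hredx c)
  let γ₀ := hW.lift (tst k[X]) (ofRing u χ ((compat_iff u χ _).2 hχ))
  have hev : ∀ (i : k), i * (1 - i) = 0 → ∀ c,
      Algebra.TensorProduct.map ({ Polynomial.evalRingHom i with commutes' := fun r => Polynomial.eval_C } : k[X] →ₐ[R] k)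
        (AlgHom.id R R') (χ c) = εA c + (i ⊗ₜ[R] 1) * (χx c - εA c) := by
    intro i hi c
    set evi : k[X] →ₐ[R] k := { Polynomial.evalRingHom i with commutes' := fun r => Polynomial.eval_C } with hevi
    set Ei := Algebra.TensorProduct.map evi (AlgHom.id R R') with hEi
    have hEι : Ei.toRingHom.comp ι'.toRingHom = RingHom.id _ := by
      have h : Ei.comp ι' = AlgHom.id R _ := Algebra.TensorProduct.ext' fun b r => by
        show Ei (ι' (b ⊗ₜ r)) = b ⊗ₜ r
        simp [ι', hEi, Cp, hevi]
      exact congrArg AlgHom.toRingHom h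
    have hEt : Ei.toRingHom tt = i ⊗ₜ[R] 1 := by simp [tt, hEi, hevi]
    have h := hχev Ei.toRingHom hEι (by
      rw [hEt, Algebra.TensorProduct.one_def, ← TensorProduct.sub_tmul, Algebra.TensorProduct.tmul_mul_tmul, hi,
        TensorProduct.zero_tmul]) c
    rw [hEt] at h
    exact h
  have hend : ∀ (i : k) (hi : i * (1 - i) = 0) (χi : Γ(N'.left, U) →+* k ⊗[R] R') (hχi) (y : tst k ⟶ W),
      WeilRes.restr fS q (tst k) y = ofRing u χi hχi → (∀ c, εA c + (i ⊗ₜ[R] 1) * (χx c - εA c) = χi c) →
      tstMap ({ Polynomial.evalRingHom i with commutes' := fun r => Polynomial.eval_C } : k[X] →ₐ[R] k) ≫ γ₀ = y := by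
    intro i hi χi hχi y hy hc
    refine (hW (tst k)).1 ?_
    rw [WeilRes.restr_comp, WeilRes.IsWeilRes.restr_lift, hy]
    set evi : k[X] →ₐ[R] k := { Polynomial.evalRingHom i with commutes' := fun r => Polynomial.eval_C }
    have heq : (Algebra.TensorProduct.map evi (AlgHom.id R R')).toRingHom.comp χ = χi :=
      RingHom.ext fun c => (hev i hi c).trans (hc c)
    rw [pullback_tstMap_ofRing evi u χ _ (heq.symm ▸ hχi)]
    congr 1
  have hx1 := hend 1 (by simp) χx _ x hrx fun c => by
    rw [← Algebra.TensorProduct.one_def, _root_.one_mul]; simp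
  have hx0 := hend 0 (by simp) εA _ 1 hr1 fun c => by
    rw [TensorProduct.zero_tmul, zero_mul, add_zero]
  rw [← map_one (pts φk W), sameComp_iff φk hφ]
  have hsub : Set.range γ₀.left ⊆ fib W := by
    rintro _ ⟨P, rfl⟩
    show W.hom (γ₀.left P) ∈ ({IsLocalRing.closedPoint R} : Set _)
    rw [Set.mem_singleton_iff, ← Scheme.Hom.comp_apply, Over.w γ₀]
    refine PrimeSpectrum.ext (le_antisymm (IsLocalRing.le_maximalIdeal (Ideal.IsPrime.ne_top inferInstance)) ?_)
    intro r hr
    show algebraMap R k[X] r ∈ (P : PrimeSpectrum k[X]).asIdeal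
    rw [hB r hr]
    exact zero_mem _
  haveI : PreconnectedSpace (Spec (CommRingCat.of k[X])) := by
    haveI : IrreducibleSpace (PrimeSpectrum k[X]) := inferInstance
    exact inferInstanceAs (PreconnectedSpace (PrimeSpectrum k[X]))
  haveI : PreconnectedSpace (tst (R := R) k[X]).left := ‹PreconnectedSpace (Spec (CommRingCat.of k[X]))›
  refine (isPreconnected_range γ₀.left.continuous).subset_connectedComponentIn ?_ hsub ?_
  · rw [← hx0]; exact ⟨_, rfl⟩
  · rw [← hx1]; exact ⟨_, rfl⟩

include hT hφ hθ hW in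
/-- Points with the same reduction lie in the same component. -/
theorem sameComp_of_redPt_eq (x y : tst k ⟶ W) (h : redPt θ q x = redPt θ q y) :
    SameComp (pts φk W x) (pts φk W y) := by
  have h1 : redPt θ q (x⁻¹ * y) = 1 := by
    show redHom θ q (x⁻¹ * y) = 1
    rw [map_mul, map_inv, show redHom θ q x = redHom θ q y from h, inv_mul_cancel]
  have h2 := (sameComp_one_of_redPt hT hφ θ hθ q hW _ h1).mul_left (pts φk W x)
  rwa [_root_.mul_one, ← map_mul, mul_inv_cancel_left] at h2

include hφ in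
omit [Smooth N'.hom] [GrpObj N'] [GrpObj W] [IsMonHom q] in
theorem theta_surjective : Function.Surjective θ := fun c => by
  obtain ⟨r, rfl⟩ := hφ c
  exact ⟨algebraMap R R' r, θ.commutes r⟩

include hT hφ hθ hW in
/-- Points with reductions in a connected chart lie in the same component. -/
theorem exists_pair {C : Type u} [CommRing C] (u : Spec (CommRingCat.of C) ⟶ N'.left) [IsOpenImmersion u]
    (hc : _root_.IsPreconnected (Set.range u ∩ fib N')) (g₁ g₂ : tst' θ ⟶ N')
    (h₁ : g₁.left (IsLocalRing.closedPoint k) ∈ Set.range u) (h₂ : g₂.left (IsLocalRing.closedPoint k) ∈ Set.range u) :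
    ∃ x₁ x₂ : tst k ⟶ W, redPt θ q x₁ = g₁ ∧ redPt θ q x₂ = g₂ ∧ SameComp (pts φk W x₁) (pts φk W x₂) := by
  obtain ⟨S, hS, hSc, hlift⟩ := exists_chart_lift hT θ hθ q hW u
  obtain ⟨x₁, hx₁, hx₁S⟩ := hlift g₁ h₁
  obtain ⟨x₂, hx₂, hx₂S⟩ := hlift g₂ h₂
  refine ⟨x₁, x₂, hx₁, hx₂, (sameComp_iff φk hφ W x₁ x₂).2 ?_⟩
  exact (hSc hc).subset_connectedComponentIn hx₁S hS hx₂S

include hφ in
omit [GrpObj W] [IsMonHom q] in
/-- The special fibre has rational points in every nonempty open. -/
theorem exists_point_in [IsAlgClosed k] {O : Set N'.left} (hO : IsOpen O) (hne : (O ∩ fib N').Nonempty) :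
    ∃ g : tst' θ ⟶ N', g.left (IsLocalRing.closedPoint k) ∈ O := by
  let ρ := pullback.fst N'.hom (Spec.map (CommRingCat.ofHom θ.toRingHom))
  haveI : JacobsonSpace (Red.bc (Spec.map (CommRingCat.ofHom θ.toRingHom)) N').left :=
    LocallyOfFiniteType.jacobsonSpace (pullback.snd N'.hom (Spec.map (CommRingCat.ofHom θ.toRingHom)))
  have hne' : (ρ ⁻¹' O).Nonempty := by
    obtain ⟨z, hzO, hz⟩ := hne
    obtain ⟨z', rfl⟩ := (range_fst θ.toRingHom (theta_surjective hφ θ) N').ge hz
    exact ⟨z', hzO⟩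
  haveI : LocallyOfFiniteType (Red.bc (Spec.map (CommRingCat.ofHom θ.toRingHom)) N').hom :=
    inferInstanceAs (LocallyOfFiniteType (pullback.snd _ _))
  obtain ⟨h, hhO, hhc⟩ := @nonempty_inter_closedPoints _ _
    (inferInstanceAs (JacobsonSpace (Red.bc (Spec.map (CommRingCat.ofHom θ.toRingHom)) N').left)) _ hne'
    (hO.preimage ρ.continuous).isLocallyClosed
  let b : 𝟙_ (Over (Spec (CommRingCat.of k))) ⟶ Red.bc (Spec.map (CommRingCat.ofHom θ.toRingHom)) N' :=
    Over.homMk ((pointEquivClosedPoint (Red.bc (Spec.map (CommRingCat.ofHom θ.toRingHom)) N').hom).symm ⟨h, hhc⟩).1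
      ((pointEquivClosedPoint (Red.bc (Spec.map (CommRingCat.ofHom θ.toRingHom)) N').hom).symm ⟨h, hhc⟩).2
  refine ⟨(pts θ.toRingHom N').symm b, ?_⟩
  rw [← pts_apply θ.toRingHom N' ((pts θ.toRingHom N').symm b), MulEquiv.apply_symm_apply,
    show b.left (IsLocalRing.closedPoint k) = h from congrArg Subtype.val
      ((pointEquivClosedPoint (Red.bc (Spec.map (CommRingCat.ofHom θ.toRingHom)) N').hom).apply_symm_apply ⟨h, hhc⟩)]
  exact hhO

include hT hφ hθ hW in
/-- Every component of the special fibre is hit by a reduction. -/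
theorem exists_redPt_mem [IsAlgClosed k] (y : N'.left) (hy : y ∈ fib N') :
    ∃ x : tst k ⟶ W, (redPt θ q x).left (IsLocalRing.closedPoint k) ∈ connectedComponentIn (fib N') y := by
  have hθs := theta_surjective hφ θ
  let ρ := pullback.fst N'.hom (Spec.map (CommRingCat.ofHom θ.toRingHom))
  have hρ := isEmbedding_fst θ.toRingHom hθs N'
  obtain ⟨y', rfl⟩ := (range_fst θ.toRingHom hθs N').ge hy
  haveI : LocallyOfFiniteType (Red.bc (Spec.map (CommRingCat.ofHom θ.toRingHom)) N').hom :=
    inferInstanceAs (LocallyOfFiniteType (pullback.snd _ _))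
  obtain ⟨O, hO, hOeq⟩ := hρ.isInducing.isOpen_iff.1
    (GrpField.isOpen_connectedComponent (Red.bc (Spec.map (CommRingCat.ofHom θ.toRingHom)) N') y')
  have hyO : ρ y' ∈ O := show y' ∈ ρ ⁻¹' O by rw [hOeq]; exact mem_connectedComponent
  obtain ⟨g, hg⟩ := exists_point_in hφ θ hO ⟨ρ y', hyO, hy⟩
  obtain ⟨U, hU, hgU, -⟩ := exists_isAffineOpen_mem_and_subset (X := N'.left) (x := g.left (IsLocalRing.closedPoint k))
    (U := ⊤) trivial
  obtain ⟨S, -, -, hlift⟩ := exists_chart_lift hT θ hθ q hW hU.fromSpec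
  obtain ⟨x, hx, -⟩ := hlift g (by rw [hU.range_fromSpec]; exact hgU)
  refine ⟨x, ?_⟩
  rw [hx]
  obtain ⟨g', hg'⟩ := (range_fst θ.toRingHom hθs N').ge (mem_fib θ.toRingHom hθs N' g (IsLocalRing.closedPoint k))
  rw [← hg', ← range_fst θ.toRingHom hθs N', connectedComponentIn_range hρ.isInducing]
  refine ⟨g', ?_, rfl⟩
  rw [← hOeq]
  show ρ g' ∈ O
  rw [hg']
  exact hg

include hT hφ hθ hW in
/-- A point is in the identity component exactly when its reduction is. -/
theorem mem_neutralSet_iff_redPt [IsAlgClosed k] (x : tst k ⟶ W) :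
    x.left (IsLocalRing.closedPoint k) ∈ SGA3x.neutralSet W ↔
      (redPt θ q x).left (IsLocalRing.closedPoint k) ∈ SGA3x.neutralSet N' := by
  have hθs := theta_surjective hφ θ
  let pt : Spec (CommRingCat.of k) := IsLocalRing.closedPoint k
  rw [mem_neutralSet_iff φk hφ W x, mem_neutralSet_iff θ.toRingHom hθs N' (redPt θ q x)]
  constructor
  · intro h
    let f := Spec.map (CommRingCat.ofHom (algebraMap R R'))
    let H := Red.bc (Spec.map (CommRingCat.ofHom φk)) W
    have hfθ : Spec.map (CommRingCat.ofHom θ.toRingHom) ≫ f = Spec.map (CommRingCat.ofHom φk) := by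
      rw [← Spec.map_comp, ← CommRingCat.ofHom_comp]
      congr 2
      exact RingHom.ext fun r => θ.commutes r
    let L : H.left ⟶ pullback W.hom f := pullback.lift (pullback.fst W.hom (Spec.map (CommRingCat.ofHom φk)))
      (pullback.snd W.hom (Spec.map (CommRingCat.ofHom φk)) ≫ Spec.map (CommRingCat.ofHom θ.toRingHom)) (by
        rw [pullback.condition, Category.assoc, hfθ])
    let Φ : H.left ⟶ N'.left := L ≫ q.left
    have hΦ : ∀ a : tst k ⟶ W, Φ ((pts φk W a).left pt) = (redPt θ q a).left pt := by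
      intro a
      have hfst : (pts φk W a).left ≫ pullback.fst W.hom (Spec.map (CommRingCat.ofHom φk)) = a.left := by
        refine (SubSpec19.bcPts_symm_left (Spec.map (CommRingCat.ofHom φk)) (𝟙_ _) (pts φk W a)).symm.trans ?_
        rw [show (SubSpec19.bcPts (Spec.map (CommRingCat.ofHom φk)) (G := W) (𝟙_ _)).symm (pts φk W a) = ofMapUnit φk ≫ a from
          MulEquiv.symm_apply_apply _ _]
        exact Category.id_comp _
      have hsp : (spO θ).left ≫ pullback.fst (tst (R := R) k).hom f = 𝟙 _ := by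
        show (Spec.map _ ≫ (pullbackSpecIso R k R').inv) ≫ pullback.fst _ _ = 𝟙 _
        rw [Category.assoc, pullbackSpecIso_inv_fst, ← Spec.map_comp, ← Spec.map_id]
        refine congrArg Spec.map (CommRingCat.hom_ext (RingHom.ext fun b => ?_))
        show red θ (b ⊗ₜ (1 : R')) = b
        rw [red_tmul, map_one, _root_.mul_one]
      have hL : (pts φk W a).left ≫ L = (spO θ).left ≫ ((Over.pullback f).map a).left := by
        refine pullback.hom_ext ?_ ?_
        · rw [Category.assoc, pullback.lift_fst, hfst, Category.assoc]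
          erw [pullback.lift_fst]
          rw [reassoc_of% hsp]
        · rw [Category.assoc, pullback.lift_snd, Category.assoc]
          erw [pullback.lift_snd]
          have h1 := Over.w (pts φk W a)
          have h2 := Over.w (spO θ)
          erw [h2]
          erw [reassoc_of% h1]
          rfl
      show ((pts φk W a).left ≫ L ≫ q.left) pt = _
      rw [reassoc_of% hL]
      rfl
    rw [← map_one (pts θ.toRingHom N'), sameComp_iff θ.toRingHom hθs, ← redPt_one θ q, ← hΦ x, ← hΦ 1]
    refine (isPreconnected_connectedComponent.image Φ Φ.continuous.continuousOn).subset_connectedComponentIn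
      ⟨(pts φk W 1).left pt, mem_connectedComponent, rfl⟩ ?_ ⟨_, ?_, rfl⟩
    · rintro _ ⟨z, -, rfl⟩
      show N'.hom (Φ z) = IsLocalRing.closedPoint R'
      have hw : Φ ≫ N'.hom = pullback.snd W.hom (Spec.map (CommRingCat.ofHom φk)) ≫ Spec.map (CommRingCat.ofHom θ.toRingHom) := by
        rw [Category.assoc, Over.w q]
        exact pullback.lift_snd _ _ _
      rw [← Scheme.Hom.comp_apply, hw, Scheme.Hom.comp_apply]
      exact specMap_eq_closedPoint θ.toRingHom hθs _
    · rw [map_one]; exact h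
  · intro h
    let e' := η[N'].left (IsLocalRing.closedPoint R')
    let I := connectedComponentIn (fib N') e'
    let ρ := pullback.fst N'.hom (Spec.map (CommRingCat.ofHom θ.toRingHom))
    have hρ := isEmbedding_fst θ.toRingHom hθs N'
    let H' := Red.bc (Spec.map (CommRingCat.ofHom θ.toRingHom)) N'
    haveI : LocallyOfFiniteType H'.hom := inferInstanceAs (LocallyOfFiniteType (pullback.snd _ _))
    let o : H'.left := (pts θ.toRingHom N' 1).left pt
    have ho : ρ o = e' := by
      rw [pts_apply, unit_left]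
      exact congrArg η[N'].left (specMap_eq_closedPoint θ.toRingHom hθs _)
    have hI : I = ρ '' connectedComponent o := by
      show connectedComponentIn (fib N') e' = _
      rw [← range_fst θ.toRingHom hθs N', ← ho, connectedComponentIn_range hρ.isInducing]
    have hirr : IsIrreducible I := hI ▸ (GrpField.isIrreducible_connectedComponent H' o).image ρ ρ.continuous.continuousOn
    obtain ⟨O, hO, hOeq⟩ := hρ.isInducing.isOpen_iff.1 (GrpField.isOpen_connectedComponent H' o)
    have hOI : O ∩ fib N' = I := by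
      rw [hI, ← hOeq, Set.image_preimage_eq_inter_range, range_fst θ.toRingHom hθs N']
    have hsm : ∀ g : tst' θ ⟶ N', g.left pt ∈ I ↔ SameComp 1 (pts θ.toRingHom N' g) := fun g => by
      rw [← map_one (pts θ.toRingHom N'), sameComp_iff θ.toRingHom hθs, unit_left, Scheme.Hom.comp_apply]
      exact Iff.of_eq (congrArg (fun z => g.left pt ∈ connectedComponentIn (fib N') z)
        (congrArg η[N'].left (specMap_eq_closedPoint θ.toRingHom hθs _).symm))
    have hchart : ∀ g : tst' θ ⟶ N', g.left pt ∈ I → ∃ U : N'.left.Opens, IsAffineOpen U ∧ g.left pt ∈ U ∧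
        (U : Set N'.left) ∩ fib N' ⊆ I := fun g hg => by
      obtain ⟨U, hU, hgU, hUO⟩ := exists_isAffineOpen_mem_and_subset (X := N'.left) (x := g.left pt) (U := ⟨O, hO⟩)
        (hOI.ge hg).1
      exact ⟨U, hU, hgU, fun z hz => hOI.le ⟨hUO hz.1, hz.2⟩⟩
    have hpre : ∀ U : N'.left.Opens, (U : Set N'.left) ∩ fib N' ⊆ I →
        _root_.IsPreconnected ((U : Set N'.left) ∩ fib N') := fun U hU => by
      have e : (U : Set N'.left) ∩ fib N' = I ∩ U :=
        Set.Subset.antisymm (fun z hz => ⟨hU hz, hz.1⟩) fun z hz => ⟨hz.2, connectedComponentIn_subset _ _ hz.1⟩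
      rw [e]
      refine IsPreirreducible.isPreconnected fun a b ha hb ⟨z, hz, hza⟩ ⟨w, hw, hwb⟩ => ?_
      obtain ⟨v, hv, ⟨hvU, hva⟩, -, hvb⟩ := hirr.2 ((U : Set N'.left) ∩ a) ((U : Set N'.left) ∩ b)
        (U.isOpen.inter ha) (U.isOpen.inter hb) ⟨z, hz.1, hz.2, hza⟩ ⟨w, hw.1, hw.2, hwb⟩
      exact ⟨v, ⟨hv, hvU⟩, hva, hvb⟩
    set g := redPt θ q x with hgdef
    have hgI : g.left pt ∈ I := (hsm g).2 h
    have h1I : (1 : tst' θ ⟶ N').left pt ∈ I := (hsm 1).2 (by rw [map_one]; exact SameComp.refl _)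
    obtain ⟨U₁, hU₁, h1U, hU₁I⟩ := hchart 1 h1I
    obtain ⟨U₂, hU₂, hgU, hU₂I⟩ := hchart g hgI
    obtain ⟨v, hvI, hv₁, hv₂⟩ := hirr.2 U₁ U₂ U₁.isOpen U₂.isOpen ⟨_, h1I, h1U⟩ ⟨_, hgI, hgU⟩
    obtain ⟨gh, hgh⟩ := exists_point_in hφ θ (O := (U₁ : Set N'.left) ∩ U₂) (U₁.isOpen.inter U₂.isOpen)
      ⟨v, ⟨hv₁, hv₂⟩, connectedComponentIn_subset _ _ hvI⟩
    have hr : ∀ {U : N'.left.Opens} (hU : IsAffineOpen U), Set.range hU.fromSpec = (U : Set N'.left) :=
      fun hU => hU.range_fromSpec
    obtain ⟨xa, xb, ha, hb, hab⟩ := exists_pair hT hφ θ hθ q hW hU₁.fromSpec (by rw [hr hU₁]; exact hpre _ hU₁I) 1 gh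
      (by rw [hr hU₁]; exact h1U) (by rw [hr hU₁]; exact hgh.1)
    obtain ⟨xc, xd, hc, hd, hcd⟩ := exists_pair hT hφ θ hθ q hW hU₂.fromSpec (by rw [hr hU₂]; exact hpre _ hU₂I) gh g
      (by rw [hr hU₂]; exact hgh.2) (by rw [hr hU₂]; exact hgU)
    exact ((((sameComp_one_of_redPt hT hφ θ hθ q hW xa ha).trans hab).trans
      (sameComp_of_redPt_eq hT hφ θ hθ q hW xb xc (hb.trans hc.symm))).trans hcd).trans
      (sameComp_of_redPt_eq hT hφ θ hθ q hW xd x hd)

end Groth.Agent.WeilComp19
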