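import Groth.Agent.Lib.WeilComp19.Main

/-!
# Finite extensions of discrete valuation rings with algebraically closed residue field
-/

set_option autoImplicit false
set_option linter.style.haveILetI false
set_option linter.unusedSectionVars false
set_option backward.isDefEq.respectTransparency false
set_option backward.isDefEq.respectTransparency.types false
universe u

open CategoryTheory CategoryTheory.Limits MonoidalCategory CartesianMonoidalCategory MonObj GrpObj AlgebraicGeometry
open IsLocalRing

noncomputable section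

namespace Groth.Agent.WeilComp19

variable (R R' : Type u) [CommRing R] [IsDomain R] [IsDiscreteValuationRing R] [CommRing R'] [IsDomain R']
  [IsDiscreteValuationRing R'] [Algebra R R'] [Module.Finite R R'] [FaithfulSMul R R']

theorem isLocalHom_algebraMap : IsLocalHom (algebraMap R R') := inferInstance

theorem exists_setup [IsAlgClosed (ResidueField R)] :
    Tot R R' ∧ IsLocalHom (algebraMap R R') ∧ Function.Surjective (algebraMap R (ResidueField R)) ∧
      ∃ θ : R' →ₐ[R] ResidueField R, ∀ r ∈ maximalIdeal R', θ r = 0 := by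
  haveI := isLocalHom_algebraMap R R'
  have hb : Function.Bijective (algebraMap (ResidueField R) (ResidueField R')) :=
    IsAlgClosed.algebraMap_bijective_of_isIntegral
  let e := RingEquiv.ofBijective _ hb
  have hres : ∀ r, residue R' (algebraMap R R' r) = algebraMap (ResidueField R) (ResidueField R') (residue R r) :=
    fun r => rfl
  refine ⟨⟨fun r' => ?_, ?_⟩, inferInstance, IsLocalRing.residue_surjective, ?_⟩
  · obtain ⟨c, hc⟩ := hb.2 (residue R' r')
    obtain ⟨r, rfl⟩ := IsLocalRing.residue_surjective c
    exact ⟨r, (residue_eq_zero_iff _).1 (by rw [map_sub, hres, hc, sub_self])⟩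
  · obtain ⟨π, hπ⟩ := IsDiscreteValuationRing.exists_irreducible R'
    obtain ⟨ϖ, hϖ⟩ := IsDiscreteValuationRing.exists_irreducible R
    have h0 : algebraMap R R' ϖ ≠ 0 := by
      rw [ne_eq, ← map_zero (algebraMap R R')]
      exact fun h => hϖ.ne_zero (FaithfulSMul.algebraMap_injective R R' h)
    obtain ⟨n, u, hu⟩ := IsDiscreteValuationRing.eq_unit_mul_pow_irreducible h0 hπ
    refine ⟨n, ?_⟩
    rw [hπ.maximalIdeal_eq, hϖ.maximalIdeal_eq, Ideal.span_singleton_pow, Ideal.map_span, Set.image_singleton,
      Ideal.span_singleton_le_span_singleton]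
    exact ⟨↑u⁻¹, by rw [hu, mul_comm _ (↑u⁻¹ : R'), Units.inv_mul_cancel_left]⟩
  · refine ⟨{ e.symm.toRingHom.comp (residue R') with commutes' := fun r => ?_ }, fun r hr => ?_⟩
    · show e.symm (residue R' (algebraMap R R' r)) = residue R r
      rw [hres]
      exact (RingEquiv.symm_apply_eq _).2 rfl
    · show e.symm (residue R' r) = 0
      rw [(residue_eq_zero_iff r).2 hr, map_zero]

/-- Right translations preserve components. -/
theorem sameComp_mul_right {k : Type u} [Field k] {H : Over (Spec (CommRingCat.of k))} [GrpObj H]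
    {x y : 𝟙_ (Over (Spec (CommRingCat.of k))) ⟶ H} (h : ModelTors19.SameComp x y)
    (g : 𝟙_ (Over (Spec (CommRingCat.of k))) ⟶ H) : ModelTors19.SameComp (x * g) (y * g) := by
  let L : H ⟶ H := lift (𝟙 H) (toUnit H ≫ g) ≫ μ[H]
  have hL : ∀ a : 𝟙_ (Over (Spec (CommRingCat.of k))) ⟶ H, (a * g).left = a.left ≫ L.left := fun a => by
    have e : a ≫ L = a * g := by
      rw [comp_lift_assoc, Category.comp_id, toUnit_unique (a ≫ toUnit H) (𝟙 _) |> fun h => (by
        rw [← Category.assoc, h, Category.id_comp] : a ≫ toUnit H ≫ g = g), ← Hom.mul_def]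
    rw [← e, Over.comp_left]
  unfold ModelTors19.SameComp
  rw [hL, hL, Scheme.Hom.comp_apply, Scheme.Hom.comp_apply]
  exact L.left.continuous.image_connectedComponent_subset _ ⟨_, h, rfl⟩

theorem sameComp_pow {k : Type u} [Field k] [IsAlgClosed k] {H : Over (Spec (CommRingCat.of k))} [GrpObj H]
    {x y : 𝟙_ (Over (Spec (CommRingCat.of k))) ⟶ H} (h : ModelTors19.SameComp x y) :
    ∀ n : ℕ, ModelTors19.SameComp (x ^ n) (y ^ n)
  | 0 => by rw [pow_zero, pow_zero]; exact ModelTors19.SameComp.refl _
  | n + 1 => by
    rw [pow_succ, pow_succ]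
    exact (sameComp_mul_right (sameComp_pow h n) x).trans (h.mul_left (y ^ n))

variable {R R'}

/-- Points with values in the two residue fields. -/
theorem exists_transfer {k : Type u} [Field k] [Algebra R k] (θ : R' →ₐ[R] k) (hs : Function.Surjective θ)
    (hθ : ∀ r ∈ maximalIdeal R', θ r = 0) (N' : Over (Spec (CommRingCat.of R'))) [GrpObj N'] :
    ∃ Φ : (Over.mk (Spec.map (CommRingCat.ofHom (residue R'))) ⟶ N') ≃* (tst' θ ⟶ N'),
      ∀ a, (Φ a).left (closedPoint k) = a.left (closedPoint (ResidueField R')) := by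
  let σ : ResidueField R' →+* k := Ideal.Quotient.lift (maximalIdeal R') θ.toRingHom hθ
  haveI : IsIso (CommRingCat.ofHom σ) := (ConcreteCategory.isIso_iff_bijective _).2
    ⟨σ.injective, fun c => by obtain ⟨r, rfl⟩ := hs c; exact ⟨residue R' r, rfl⟩⟩
  let j : tst' θ ⟶ Over.mk (Spec.map (CommRingCat.ofHom (residue R'))) := Over.homMk (Spec.map (CommRingCat.ofHom σ)) (by
    show Spec.map _ ≫ Spec.map _ = Spec.map _
    rw [← Spec.map_comp, ← CommRingCat.ofHom_comp]
    rfl)
  haveI : IsIso ((Over.forget _).map j) := inferInstanceAs (IsIso (Spec.map (CommRingCat.ofHom σ)))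
  haveI : IsIso j := isIso_of_reflects_iso j (Over.forget _)
  refine ⟨{ toFun := fun a => j ≫ a, invFun := fun b => inv j ≫ b,
            left_inv := fun a => IsIso.inv_hom_id_assoc _ _, right_inv := fun b => IsIso.hom_inv_id_assoc _ _,
            map_mul' := fun a b => MonObj.comp_mul _ a b }, fun a => ?_⟩
  show a.left (j.left (closedPoint k)) = _
  exact congrArg a.left (Subsingleton.elim (α := PrimeSpectrum (ResidueField R')) _ _)

end Groth.Agent.WeilComp19
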